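import Groth.Agent.L21.CurveRD.Global
import Groth.Agent.L21.Duality.Canonical

/-!
Invertible modules of degree `2g - 2` with `R¹f_* ≅ O` on a smooth curve are `Ω`.
-/

set_option autoImplicit false
set_option linter.style.haveILetI false
set_option linter.unusedSectionVars false
set_option backward.isDefEq.respectTransparency false
set_option backward.isDefEq.respectTransparency.types false

universe u

open CategoryTheory CategoryTheory.Limits AlgebraicGeometry TopologicalSpace
open Groth.L00.Tensor
open Groth.L17.BC Groth.L17.BC.Classes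

noncomputable section

namespace Groth.L21.CurveRD

variable {X S : Scheme.{u}} (f : X ⟶ S) [IsProper f] [SmoothOfRelativeDimension 1 f] [GeometricallyConnected f]

/-- in top degree the fibre dimension of an invertible `R¹f_*` is one -/
theorem fiberRank_one_eq [HasInjectiveResolutions X.Modules] {L : X.Modules} (hL : PicF.IsInvertible L)
    (hR : PicF.IsInvertible ((Coh.Rpush f 1).obj L)) (y : S) : CohIII.fiberRank f L 1 y = 1 := by
  haveI : Smooth f := SmoothOfRelativeDimension.smooth 1 f
  have hLl := Groth.L16.Existence.isFinLocFree_of_isInvertible hL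
  haveI := Groth.L29.DC.PCQCoh.isQCoh_of_isFinLocFree hLl
  obtain ⟨Δ⟩ := nonempty_derivedLES f
  obtain ⟨U, hyU, ⟨i⟩⟩ := Groth.L12.FinCov.isFinLocFreeOfRank_one_of_isInvertible hR y
  obtain ⟨_, ⟨V, hV, rfl⟩, hyV, hVU⟩ := S.isBasis_affineOpens.exists_subset_of_mem_open hyU U.2
  obtain ⟨l⟩ := nonempty_freeBC0 f L hV (Groth.L18.LFP.isFP_of_isFinLocFree _ hLl)
    (Groth.L29.DC.RelTor.isFlatOver_of_isFlat f (Groth.L21.RR.isFlat_of_isInvertible hL))
  haveI := Groth.L17.PushQCoh.isQCoh_Rpush f L 1
  have hv : Subsingleton (CohIII.fiberH f L y 2) :=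
    Groth.L12.CurveFam.subsingleton_fiberH_of_dim f y (d := 1) (fibre_dim f y).le _ Nat.one_lt_two
  exact (l.free.fiberRank_eq hV Δ hyV 1
    (l.free.split_prev hV hyV 2 1 rfl hv (l.free.split_of_vanishing hV hyV 2 hv))).trans
    (mu_eq_of_restrict _ hV hVU i _)

/-- degree `2g - 2` and `R¹f_* L ≅ O` give `L ≅ Ω` -/
theorem nonempty_iso_omega_of_Rpush [HasInjectiveResolutions X.Modules] {L : X.Modules} (hL : PicF.IsInvertible L)
    (e : (Coh.Rpush f 1).obj L ≅ Coh.structureModule S)
    (hdeg : ∀ s : S, letI : (f.fiber s).Over (Spec (S.residueField s)) := ⟨f.fiberToSpecResidueField s⟩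
      Curv2.deg (S.residueField s) (f.fiber s) ((Scheme.Modules.pullback (f.fiberι s)).obj L) 1 =
        2 * (Curv2.genus (S.residueField s) (f.fiber s) : ℤ) - 2) :
    Nonempty (L ≅ Omega.sheaf f) := by
  haveI : Smooth f := SmoothOfRelativeDimension.smooth 1 f
  have hR := Groth.L18.Ample.isInvertible_of_iso e.symm (Groth.L18.Ample.isInvertible_structureModule S)
  have hfib : ∀ s, Nonempty (CohIII.fiberMod f L s ≅ CohIII.fiberMod f (Omega.sheaf f) s) := by
    intro s
    obtain ⟨hp, hsm, hgi, hint⟩ := Groth.L21.OmegaFam.fibre_facts f s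
    haveI := hp
    letI : (f.fiber s).Over (Spec (CommRingCat.of (S.residueField s))) := ⟨f.fiberToSpecResidueField s⟩
    haveI : IsProper (f.fiber s ↘ Spec (CommRingCat.of (S.residueField s))) := hp
    haveI : Smooth (f.fiber s ↘ Spec (CommRingCat.of (S.residueField s))) := hsm
    haveI : GeometricallyIntegral (f.fiber s ↘ Spec (CommRingCat.of (S.residueField s))) := hgi
    haveI := hint
    haveI := Groth.L21.RR.isNoetherian_of_proper (X := f.fiber s) (S.residueField s)
    have hd := fibre_dim f s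
    have h0 : Groth.L21.RR.h (S.residueField s) 0 (Coh.structureModule (f.fiber s)) = 1 :=
      Groth.L21.RR.h0_eq_one_of_geometricallyIntegral (X := f.fiber s) (S.residueField s) hd
    have hds : Curv2.deg (S.residueField s) (f.fiber s) (CohIII.fiberMod f L s) 1 =
        2 * (Groth.L21.RR.h (S.residueField s) 1 (Coh.structureModule (f.fiber s)) : ℤ) - 2 := hdeg s
    have h1 : Groth.L21.RR.h (S.residueField s) 1 (CohIII.fiberMod f L s) = 1 := fiberRank_one_eq f hL hR s
    have hds' := hds
    rw [Curv2.deg, Groth.L21.RR.euler_eq (S.residueField s) hd.le, Groth.L21.RR.euler_eq (S.residueField s) hd.le,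
      h0, h1] at hds'
    obtain ⟨i⟩ := Groth.L21.Duality.nonempty_iso_omega (k := S.residueField s) (X := f.fiber s) hd h0
      (L := CohIII.fiberMod f L s) (Groth.L18.Ample.isInvertible_pullback _ hL) hds (by omega)
    obtain ⟨j⟩ := Groth.L21.OmegaFam.nonempty_pullback_omega
      (IsPullback.of_hasPullback f (S.fromSpecResidueField s))
    exact ⟨i ≪≫ j.symm⟩
  obtain ⟨N, ⟨eN⟩, ⟨i⟩⟩ := exists_pullback_Rpush_iso f hL hfib hR
  let eNL : CohB1.tensorMod N L ≅ Coh.structureModule X :=
    i.symm ≪≫ (Scheme.Modules.pullback f).mapIso e ≪≫ Groth.L29.LocFree.pullbackUnitIso f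
  exact ⟨(tensorUnitRight L).symm ≪≫ tensorIso (Iso.refl L) eN.symm ≪≫ (tensorAssoc L N _).symm ≪≫
    tensorIso (tensorComm L N ≪≫ eNL) (Iso.refl _) ≪≫ tensorUnitLeft _⟩

end Groth.L21.CurveRD
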