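import Groth.Agent.L21.SmoothCurveDim

/-!
Dimension of connected schemes smooth of relative dimension one over a field.
-/

set_option autoImplicit false
set_option linter.style.haveILetI false
set_option backward.isDefEq.respectTransparency false

universe u

open CategoryTheory CategoryTheory.Limits AlgebraicGeometry TopologicalSpace

noncomputable section

namespace Groth.L21.CurveRD

theorem ringKrullDim_eq (k A : Type u) [Field k] [CommRing A] [IsDomain A] [Algebra k A] (n : ℕ)
    [Algebra.IsStandardSmoothOfRelativeDimension n k A] : ringKrullDim A = (n : WithBot ℕ∞) := by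
  haveI : Algebra.IsStandardSmooth k A := Algebra.IsStandardSmoothOfRelativeDimension.isStandardSmooth n
  obtain ⟨q, hq⟩ := Ideal.exists_maximal A
  haveI := hq
  obtain ⟨g, hg⟩ := Algebra.IsStandardSmoothOfRelativeDimension.exists_etale_mvPolynomial n k A
  letI := g.toRingHom.toAlgebra
  haveI : Algebra.Etale (MvPolynomial (Fin n) k) A := hg
  haveI : (q.under (MvPolynomial (Fin n) k)).IsMaximal := by
    letI : Field (A ⧸ q) := Ideal.Quotient.field q
    haveI : Algebra.FiniteType (MvPolynomial (Fin n) k) (A ⧸ q) :=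
      Algebra.FiniteType.of_surjective (Ideal.Quotient.mkₐ (MvPolynomial (Fin n) k) q) Ideal.Quotient.mk_surjective
    haveI : Module.Finite (MvPolynomial (Fin n) k) (A ⧸ q) := finite_of_finite_type_of_isJacobsonRing _ _
    have hm := Ideal.isMaximal_comap_of_isIntegral_of_isMaximal (R := MvPolynomial (Fin n) k) (⊥ : Ideal (A ⧸ q))
    rw [IsScalarTower.algebraMap_eq (MvPolynomial (Fin n) k) A (A ⧸ q), ← Ideal.comap_comap,
      ← RingHom.ker_eq_comap_bot, Ideal.Quotient.algebraMap_eq, Ideal.mk_ker] at hm
    exact hm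
  have h1 := (Groth.L21.Smooth.regular_localization_of_etale (MvPolynomial (Fin n) k) A q).2
  rw [IsLocalization.AtPrime.ringKrullDim_eq_height q, IsLocalization.AtPrime.ringKrullDim_eq_height
    (q.under (MvPolynomial (Fin n) k)), Groth.L22.AffineDim.height_of_isMaximal k A q,
    Groth.L22.AffineDim.height_of_isMaximal k (MvPolynomial (Fin n) k),
    MvPolynomial.ringKrullDim_of_isNoetherianRing, ringKrullDim_eq_zero_of_field, zero_add] at h1
  simp only [Nat.card_eq_fintype_card, Fintype.card_fin] at h1
  exact h1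

theorem topologicalKrullDim_eq_one {k : Type u} [Field k] {X : Scheme.{u}} (p : X ⟶ Spec (CommRingCat.of k))
    [IsIntegral X] [SmoothOfRelativeDimension 1 p] : topologicalKrullDim X = 1 := by
  haveI : Smooth p := SmoothOfRelativeDimension.smooth 1 p
  letI : X.Over (Spec (CommRingCat.of k)) := ⟨p⟩
  haveI : LocallyOfFiniteType (X ↘ Spec (CommRingCat.of k)) := (inferInstance : LocallyOfFiniteType p)
  obtain ⟨m, hm, -, hmU⟩ := Groth.L22.SchemeDim.exists_dim_eq_trdeg k X
  obtain ⟨x⟩ := (inferInstance : Nonempty X)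
  obtain ⟨V, hV, W, hW, hxW, e, hsm⟩ :=
    SmoothOfRelativeDimension.exists_isStandardSmoothOfRelativeDimension (n := 1) (f := p) x
  obtain rfl : V = ⊤ := by
    ext y
    simp only [Opens.coe_top, Set.mem_univ, iff_true]
    obtain rfl : y = p x := Subsingleton.elim (α := PrimeSpectrum k) _ _
    exact e hxW
  let α := (p.appLE ⊤ W e).hom.comp (Scheme.ΓSpecIso (CommRingCat.of k)).inv.hom
  have hα : α.IsStandardSmoothOfRelativeDimension 1 :=
    (RingHom.isStandardSmoothOfRelativeDimension_respectsIso (n := 1)).2 _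
      (Scheme.ΓSpecIso (CommRingCat.of k)).symm.commRingCatIsoToRingEquiv hsm
  letI : Algebra k Γ(X, W) := α.toAlgebra
  haveI : Algebra.IsStandardSmoothOfRelativeDimension 1 k Γ(X, W) := hα
  haveI : Nonempty W := ⟨⟨x, hxW⟩⟩
  have h1 : ringKrullDim Γ(X, W) = (m : WithBot ℕ∞) := by
    rw [← Groth.L22.SchemeDim.topologicalKrullDim_affineOpen hW]
    exact hmU W ⟨x, hxW⟩
  exact hm.trans (h1.symm.trans (ringKrullDim_eq k Γ(X, W) 1))

end Groth.L21.CurveRD
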