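import Groth.Agent.L21.CurveRD.Push
import Groth.Agent.S0033
import Groth.Agent.L12.SymSq.Inter
import Groth.Agent.L12.RR.Def.Lines
import Groth.Agent.L12.CurveFam.R1
import Groth.Agent.L23.EffCartierBC
import Groth.Agent.L20.DescLocus.UnitLocFree
import Groth.Agent.L20.DescLocus.AppIsoH0
import Groth.Agent.L03.Euler.Twist

/-!
`R¹f_* Ω ≅ O_S` for a smooth proper curve with geometrically connected fibres, over any base.

After pulling back to `X` there is a section, the diagonal; the residue sequence along it gives an epimorphism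
`O_X → f^* R¹f_* Ω` of invertible modules.
-/

set_option autoImplicit false
set_option linter.style.haveILetI false
set_option linter.unusedSectionVars false
set_option backward.isDefEq.respectTransparency false
set_option backward.isDefEq.respectTransparency.types false

universe u

open CategoryTheory CategoryTheory.Limits AlgebraicGeometry TopologicalSpace
open Groth.L00.Tensor

noncomputable section

namespace Groth.L21.CurveRD

variable {X S : Scheme.{u}} (f : X ⟶ S) [IsProper f] [SmoothOfRelativeDimension 1 f] [GeometricallyConnected f]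

theorem isIso_app (U : S.Opens) : IsIso (f.app U) := by
  haveI : Smooth f := SmoothOfRelativeDimension.smooth 1 f
  exact Groth.L20.DescLocus.isIso_app_universally f (fun s U => Groth.L12.CurveFam.isIso_fiber_app f s U)
    (𝟙 X) f (𝟙 S) IsPullback.of_id_fst U

/-- the twist along a section by the inverse of its ideal has no `H¹` on the fibres -/
theorem subsingleton_fiberH_twist {Z : X.IdealSheafData} (hZ : BlowUp.IsEffCartierIdeal Z)
    [Flat (Z.subschemeι ≫ f)] (hsurj : Function.Surjective (Z.subschemeι ≫ f))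
    {T M : X.Modules} (hT : PicF.IsInvertible T)
    (e : CohB1.tensorMod (ClSub.idealMod Z) T ≅ M) (s : S)
    (hM : Nonempty (CohIII.fiberMod f M s ≅ Omega.sheaf (f.fiberToSpecResidueField s))) :
    Subsingleton (CohIII.fiberH f T s 1) := by
  haveI : Smooth f := SmoothOfRelativeDimension.smooth 1 f
  obtain ⟨hp, hsm, hgi, hint⟩ := Groth.L21.OmegaFam.fibre_facts f s
  haveI := hp
  letI : (f.fiber s).Over (Spec (CommRingCat.of (S.residueField s))) := ⟨f.fiberToSpecResidueField s⟩
  haveI : IsProper (f.fiber s ↘ Spec (CommRingCat.of (S.residueField s))) := hp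
  haveI : Smooth (f.fiber s ↘ Spec (CommRingCat.of (S.residueField s))) := hsm
  haveI := hint
  haveI := Groth.L21.RR.isNoetherian_of_proper (X := f.fiber s) (S.residueField s)
  let ι := f.fiberι s
  let J := Z.comap ι
  have sqF := IsPullback.of_hasPullback f (S.fromSpecResidueField s)
  have hJ : BlowUp.IsEffCartierIdeal J := Groth.L23.EffCart.isEffCartier_comap_pullback sqF hZ
  obtain ⟨eM⟩ := hM
  obtain ⟨eJ⟩ := Groth.L12.RR.nonempty_pullback_idealMod ι hZ hJ
  let e' : CohB1.tensorMod (ClSub.idealMod J) ((Scheme.Modules.pullback ι).obj T) ≅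
      Omega.sheaf (f.fiber s ↘ Spec (CommRingCat.of (S.residueField s))) :=
    tensorIso eJ.symm (Iso.refl _) ≪≫ Groth.L29.DC.PullTensor.pullTensor ι _ _ ≪≫
      (Scheme.Modules.pullback ι).mapIso e ≪≫ eM
  have hd := (Groth.L21.Duality.duality (k := S.residueField s) (X := f.fiber s) (fibre_dim f s)
    ((Groth.Agent.L19.IdealInvertible.isEffCartier_iff _).2 hJ)
    (Groth.L18.Ample.isInvertible_pullback ι hT) e').1
  haveI : Nonempty J.subscheme := by
    obtain ⟨w, hw⟩ := hsurj s
    have hz : Z.subschemeι w ∈ f ⁻¹' {s} := by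
      show f (Z.subschemeι w) = s
      rw [← Scheme.Hom.comp_apply]; exact hw
    rw [← Scheme.Hom.range_fiberι] at hz
    obtain ⟨z, hz⟩ := hz
    have hmem : z ∈ (J.support : Set (f.fiber s)) := by
      rw [Scheme.IdealSheafData.support_comap]
      show ι z ∈ (Z.support : Set X)
      rw [hz, ← Scheme.IdealSheafData.range_subschemeι]
      exact ⟨w, rfl⟩
    rw [← Scheme.IdealSheafData.range_subschemeι] at hmem
    obtain ⟨v, -⟩ := hmem
    exact ⟨v⟩
  have h0 := Groth.L12.SymSq.h0_ideal_eq_zero (k := S.residueField s) (X := f.fiber s) J.subschemeι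
  rw [Scheme.IdealSheafData.ker_subschemeι] at h0
  rw [h0] at hd
  have hfl : FlatMod.IsFlatOver f T :=
    Groth.L29.DC.RelTor.isFlatOver_of_isFlat f (Groth.L21.RR.isFlat_of_isInvertible hT)
  have hTl := Groth.L16.Existence.isFinLocFree_of_isInvertible hT
  haveI := Groth.L29.DC.PCQCoh.isQCoh_of_isFinLocFree hTl
  exact (Groth.L17.BC.subsingleton_iff_fiberRank_eq_zero f T (Groth.L18.LFP.isFP_of_isFinLocFree _ hTl) hfl s 1).2
    hd.symm

/-- the residue sequence along the diagonal: for `L₀` fibrewise `Ω`, `f^* R¹f_* L₀ ≅ Ω^∨ ⊗ L₀` -/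
theorem exists_pullback_Rpush_iso [HasInjectiveResolutions X.Modules] {L₀ : X.Modules} (hL₀ : PicF.IsInvertible L₀)
    (hfib : ∀ s, Nonempty (CohIII.fiberMod f L₀ s ≅ CohIII.fiberMod f (Omega.sheaf f) s))
    (hR : PicF.IsInvertible ((Coh.Rpush f 1).obj L₀)) :
    ∃ N : X.Modules, Nonempty (CohB1.tensorMod N (Omega.sheaf f) ≅ Coh.structureModule X) ∧
      Nonempty ((Scheme.Modules.pullback f).obj ((Coh.Rpush f 1).obj L₀) ≅ CohB1.tensorMod N L₀) := by
  haveI : Smooth f := SmoothOfRelativeDimension.smooth 1 f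
  let P := pullback f f
  let p₁ : P ⟶ X := pullback.fst f f
  let p₂ : P ⟶ X := pullback.snd f f
  let Δ : X ⟶ P := pullback.diagonal f
  have sq : IsPullback p₂ p₁ f f := (IsPullback.of_hasPullback f f).flip
  haveI : IsProper p₁ := MorphismProperty.of_isPullback sq inferInstance
  haveI : SmoothOfRelativeDimension 1 p₁ :=
    (smoothOfRelativeDimension_isStableUnderBaseChange (n := 1)).of_isPullback sq inferInstance
  haveI : GeometricallyConnected p₁ := MorphismProperty.of_isPullback sq inferInstance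
  haveI : Smooth p₁ := SmoothOfRelativeDimension.smooth 1 p₁
  haveI := Groth.L17.PushQCoh.hasInjectiveResolutions P
  haveI := Groth.L29.DC.PCQCoh.isQCoh_of_isFinLocFree (Groth.L16.Existence.isFinLocFree_of_isInvertible hL₀)
  obtain ⟨ebc⟩ := Groth.Agent.S0033.result f f p₂ p₁ sq L₀ 1
  obtain ⟨eΩ⟩ := Groth.L21.OmegaFam.nonempty_pullback_omega sq
  let M₀ := (Scheme.Modules.pullback p₂).obj L₀
  have hM₀ : PicF.IsInvertible M₀ := Groth.L18.Ample.isInvertible_pullback p₂ hL₀
  -- fibrewise `Ω` stays so after base change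
  have hfib' : ∀ x : X, Nonempty (CohIII.fiberMod p₁ M₀ x ≅ Omega.sheaf (p₁.fiberToSpecResidueField x)) := by
    intro x
    let ι := p₁.fiberι x
    have h : (ι ≫ p₂) ≫ f = (p₁.fiberToSpecResidueField x ≫ Spec.map (f.residueFieldMap x)) ≫
        S.fromSpecResidueField (f x) := by
      rw [Category.assoc, Category.assoc, Scheme.Hom.SpecMap_residueFieldMap_fromSpecResidueField, sq.w,
        ← Category.assoc, ← Category.assoc, p₁.fiber_fac x]
    let q : p₁.fiber x ⟶ f.fiber (f x) := pullback.lift _ _ h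
    have hq : q ≫ f.fiberι (f x) = ι ≫ p₂ := pullback.lift_fst _ _ h
    obtain ⟨e₁⟩ := hfib (f x)
    obtain ⟨e₂⟩ := Groth.L21.OmegaFam.nonempty_pullback_omega (IsPullback.of_hasPullback p₁ (X.fromSpecResidueField x))
    let c : ∀ M : X.Modules, (Scheme.Modules.pullback ι).obj ((Scheme.Modules.pullback p₂).obj M) ≅
        (Scheme.Modules.pullback q).obj (CohIII.fiberMod f M (f x)) := fun M =>
      (Scheme.Modules.pullbackComp ι p₂).app M ≪≫ (Scheme.Modules.pullbackCongr hq.symm).app M ≪≫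
        ((Scheme.Modules.pullbackComp q (f.fiberι (f x))).app M).symm
    exact ⟨c L₀ ≪≫ (Scheme.Modules.pullback q).mapIso e₁ ≪≫ (c (Omega.sheaf f)).symm ≪≫
      (Scheme.Modules.pullback ι).mapIso eΩ ≪≫ e₂⟩
  -- the inverse of the ideal of the diagonal
  have hc := isEffCartier_diagonal f
  obtain ⟨L, hLi, ⟨eJL⟩⟩ := Groth.L08.Cube.exists_inverse ((Groth.Agent.L19.IdealInvertible.isEffCartier_iff _).2 hc)
  let J := ClSub.idealMod Δ.ker
  let T := CohB1.tensorMod L M₀
  have hT : PicF.IsInvertible T := Groth.L18.GenLoc.isInvertible_tensor hLi hM₀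
  let eJT : CohB1.tensorMod J T ≅ M₀ :=
    (tensorAssoc J L M₀).symm ≪≫ tensorIso eJL (Iso.refl _) ≪≫ tensorUnitLeft _
  let N := (Scheme.Modules.pullback Δ).obj L
  refine ⟨N, ⟨Groth.L29.DC.PullTensor.pullTensor Δ L J ≪≫
      (Scheme.Modules.pullback Δ).mapIso (tensorComm L J ≪≫ eJL) ≪≫
      Groth.L29.LocFree.pullbackUnitIso Δ⟩, ?_⟩
  -- the residue sequence
  let seq := (Groth.L29.ExtDivisor.idealSeq P Δ.ker).map (tensorRightF T)
  have hseq : seq.ShortExact :=
    Groth.L03.Euler.shortExact_tensor hT (Groth.L29.ExtDivisor.shortExact_idealSeq Δ.ker)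
  let eT : (Scheme.Modules.pullback Δ).obj T ≅ CohB1.tensorMod N L₀ :=
    (Groth.L29.DC.PullTensor.pullTensor Δ L M₀).symm ≪≫
      tensorIso (Iso.refl _) ((Scheme.Modules.pullbackComp Δ p₂).app _ ≪≫
        (Scheme.Modules.pullbackCongr (pullback.diagonal_snd f)).app _ ≪≫
        (Scheme.Modules.pullbackId X).app _)
  obtain ⟨eQ⟩ := Groth.L29.ExtDivisor.nonempty_push_iso_quotMod Δ
  let e₃ : seq.X₃ ≅ (Scheme.Modules.pushforward Δ).obj (CohB1.tensorMod N L₀) :=
    tensorIso eQ.symm (Iso.refl T) ≪≫ ((Groth.Lead.ClShriek.pushPullIso Δ).app T).symm ≪≫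
      (Scheme.Modules.pushforward Δ).mapIso eT
  -- the connecting map is an epimorphism
  obtain ⟨les⟩ := Groth.L17.BC.Classes.nonempty_derivedLES p₁
  haveI : Flat (Δ.ker.subschemeι ≫ p₁) := by
    have h : Δ.toImage ≫ (Δ.ker.subschemeι ≫ p₁) = 𝟙 X := by
      rw [← Category.assoc]
      exact (congrArg (· ≫ p₁) Δ.toImage_imageι).trans (pullback.diagonal_fst f)
    rw [← cancel_epi (inv Δ.toImage), IsIso.inv_hom_id_assoc, Category.comp_id] at h
    rw [h]; infer_instance
  have hzT : IsZero ((Coh.Rpush p₁ 1).obj T) := by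
    have hTl := Groth.L16.Existence.isFinLocFree_of_isInvertible hT
    haveI := Groth.L29.DC.PCQCoh.isQCoh_of_isFinLocFree hTl
    refine Groth.L21.Mod.isZero_of_restrict (fun _ : Unit => (⊤ : X.Opens).ι)
      (fun x => ⟨(), ⟨x, trivial⟩, rfl⟩) _ fun _ =>
        Groth.L17.BC.isZero_restrict_of_forall _ ⊤ fun y _ =>
          Groth.L17.BC.exists_isZero_of_vanishing p₁ T (Groth.L18.LFP.isFP_of_isFinLocFree _ hTl)
            (Groth.L29.DC.RelTor.isFlatOver_of_isFlat p₁ (Groth.L21.RR.isFlat_of_isInvertible hT)) y 1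
            (subsingleton_fiberH_twist p₁ hc ?_ hT eJT y (hfib' y))
    intro x
    refine ⟨Δ.toImage x, ?_⟩
    rw [← Scheme.Hom.comp_apply, ← Category.assoc]
    exact (congrArg (fun h => (h ≫ p₁) x) Δ.toImage_imageι).trans
      (congrArg (fun h => h x) (pullback.diagonal_fst f))
  haveI : Epi (les.δ seq hseq 0 1 rfl) := by
    refine (les.exact₁ seq hseq 0 1 rfl).epi_f (IsZero.eq_of_tgt ?_ _ _)
    exact hzT.of_iso ((Coh.Rpush p₁ 1).mapIso (tensorUnitLeft T))
  obtain ⟨z⟩ := Groth.L17.BC.Classes.nonempty_Rpush_zero_iso p₁ seq.X₃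
  let e₀ : (Coh.Rpush p₁ 0).obj seq.X₃ ≅ CohB1.tensorMod N L₀ :=
    z ≪≫ (Scheme.Modules.pushforward p₁).mapIso e₃ ≪≫ (Scheme.Modules.pushforwardComp Δ p₁).app _ ≪≫
      (Scheme.Modules.pushforwardCongr (pullback.diagonal_fst f)).app _ ≪≫ (Scheme.Modules.pushforwardId X).app _
  let e₁ : (Coh.Rpush p₁ 1).obj seq.X₁ ≅ (Scheme.Modules.pullback f).obj ((Coh.Rpush f 1).obj L₀) :=
    (Coh.Rpush p₁ 1).mapIso eJT ≪≫ ebc.symm
  let φ := e₀.inv ≫ les.δ seq hseq 0 1 rfl ≫ e₁.hom
  haveI : Epi φ := inferInstance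
  haveI := Groth.L03.InterLen.isIso_of_epi_invertible φ
    (Groth.L18.GenLoc.isInvertible_tensor (Groth.L18.Ample.isInvertible_pullback Δ hLi) hL₀)
    (Groth.L18.Ample.isInvertible_pullback f hR)
  exact ⟨(asIso φ).symm⟩

/-- `R¹f_* Ω ≅ O_S` -/
theorem nonempty_Rpush_one_iso [HasInjectiveResolutions X.Modules] :
    Nonempty ((Coh.Rpush f 1).obj (Omega.sheaf f) ≅ Coh.structureModule S) := by
  have hp := isIso_app f
  have hM := Groth.L21.Bundle.isInvertible_of_rank (isFinLocFreeOfRank_Rpush_one f)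
  haveI := Groth.L20.DescLocus.isIso_unit_of_isFinLocFree f hp
    (Groth.L16.Existence.isFinLocFree_of_isInvertible hM)
  haveI := Groth.L20.DescLocus.isIso_unit_of_isFinLocFree f hp (finLocFree_structureModule S)
  obtain ⟨N, ⟨eN⟩, ⟨e⟩⟩ := exists_pullback_Rpush_iso f (isInvertible_omega f) (fun s => ⟨Iso.refl _⟩) hM
  exact ⟨asIso ((Scheme.Modules.pullbackPushforwardAdjunction f).unit.app ((Coh.Rpush f 1).obj (Omega.sheaf f))) ≪≫
    (Scheme.Modules.pushforward f).mapIso (e ≪≫ eN ≪≫ (Groth.L29.LocFree.pullbackUnitIso f).symm) ≪≫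
    (asIso ((Scheme.Modules.pullbackPushforwardAdjunction f).unit.app (Coh.structureModule S))).symm⟩

end Groth.L21.CurveRD
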