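import Groth.Agent.Lead.RigidDual.Main
import Groth.Agent.Lead.ClShriek.Tensor
import Groth.Agent.L29.DCoh.EvalMain
import Groth.Agent.L29.DCoh.ClosedProj
import Groth.Agent.L29.DCoh.ExtDivisorD
import Groth.Agent.L29.DCoh.Triangle
import Groth.Agent.L29.BC.PFShift
import Groth.Agent.L10.DerTrunc
import Groth.Agent.Lead.PCProjBasic
import Groth.Agent.L02.RelCartier.CurveRel
import Groth.Agent.L19.IdealInvertible
import Groth.Agent.L08.Cube.Inverse

/-!
The relative dualizing complex of a smooth curve is `Ω[1]`.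

From rigidity, `O_X ≅ Δ^! (pr₁^* K)`; the diagonal is an effective Cartier divisor, so `Δ_* Δ^! = RHom(Δ_* O, -)`
is tensoring with the dual `Δ_* N[-1]`, and applying `R pr₂_*` gives `O_X ≅ K ⊗ N[-1]`.
-/

set_option autoImplicit false
set_option linter.style.haveILetI false
set_option backward.defeqAttrib.useBackward true
set_option backward.isDefEq.respectTransparency false
set_option backward.isDefEq.respectTransparency.types false

universe u

open CategoryTheory CategoryTheory.Limits AlgebraicGeometry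

attribute [local instance] HasDerivedCategory.standard

noncomputable section

namespace Groth.L21.CurveRD

open Groth.L00 Groth.L29 Groth.L29.DC

variable {X : Scheme.{u}}

/-- a single object in degree `n` -/
theorem nonempty_single_shift (M : X.Modules) (n : ℤ) :
    Nonempty ((DerivedCategory.singleFunctor X.Modules n).obj M ≅ (DCoh.inD X M)⟦-n⟧) :=
  ⟨(((DerivedCategory.singleFunctors X.Modules).shiftIso (-n) n 0 (by omega)).app M).symm⟩

/-- tensor products commute -/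
theorem nonempty_LTensor_symm (A B : CochainComplex X.Modules ℤ) (hA : DCoh.IsKFlat A) (hB : DCoh.IsKFlat B)
    [DCoh.HasLTensorCx A] [DCoh.HasLTensorCx B] :
    Nonempty ((DCoh.LTensorCx B).obj (DerivedCategory.Q.obj A) ≅ (DCoh.LTensorCx A).obj (DerivedCategory.Q.obj B)) :=
  ⟨(Assoc.allIso B hB).app A ≪≫ DerivedCategory.Q.mapIso ((RHom.flipIso A).app B) ≪≫ ((Assoc.allIso A hA).app B).symm⟩

section Cartier

variable {D : Scheme.{u}} (i : D ⟶ X) [IsClosedImmersion i]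

/-- `i_* O` is perfect for an effective Cartier divisor -/
theorem isPerfect_OZ (h : BlowUp.IsEffCartierIdeal i.ker) :
    DCoh.IsPerfect (DCoh.inD X (Groth.Lead.ClShriek.OZ i)) := by
  obtain ⟨eD⟩ := Groth.L29.ExtDivisor.nonempty_push_iso_quotMod i
  have hJ : FlatMod.IsFinLocFree (ClSub.idealMod i.ker) :=
    Groth.L16.Existence.isFinLocFree_of_isInvertible ((Groth.Agent.L19.IdealInvertible.isEffCartier_iff _).2 h)
  have hO : FlatMod.IsFinLocFree (Coh.structureModule X) :=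
    Groth.L16.Existence.isFinLocFree_of_isInvertible (Groth.L18.Ample.isInvertible_structureModule _)
  have hS := Groth.L29.ExtDivisor.shortExact_idealSeq i.ker
  have hp : DCoh.IsPerfect (DCoh.inD X (ClSub.quotMod i.ker)) :=
    perfect_third (hS.singleTriangle_distinguished)
      (Groth.Lead.PCProj.isPerfect_inD hJ) (Groth.Lead.PCProj.isPerfect_inD hO)
  exact isPerfect_of_iso ((DerivedCategory.singleFunctor X.Modules 0).mapIso eD.symm) hp

variable [Dual3.HasHomO i] [PreservesFiniteLimits (Scheme.Modules.pushforward i)]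
  [PreservesFiniteColimits (Scheme.Modules.pushforward i)]

/-- `Δ^! O = N[-1]` -/
theorem nonempty_Rsh_O (L : X.Modules) (hL : ClSub.IsInverseOf L (ClSub.idealMod i.ker)) :
    Nonempty ((Groth.Lead.ClShriek.Rsh i).obj (DCoh.inD X (Coh.structureModule X)) ≅
      (DCoh.inD D ((Scheme.Modules.pullback i).obj L))⟦(-1 : ℤ)⟧) := by
  haveI : EnoughInjectives X.Modules := (Groth.L10.ModRDer.insts X.sheaf).1
  let O : DerivedCategory.Plus X.Modules := (DerivedCategory.Plus.singleFunctor X.Modules 0).obj (Coh.structureModule X)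
  obtain ⟨p⟩ := Groth.Lead.ClShriek.nonempty_plusIso i
  obtain ⟨hz, ⟨h1⟩⟩ := Groth.L29.ExtDivisor.homology_RHomOPlus_divisor i L hL O ⟨Iso.refl _⟩
  let Y := ((Dual3.RHomOPlus i).obj O).obj
  haveI : Y.IsGE 1 := (DerivedCategory.isGE_iff Y 1).2 fun j hj => hz j (by omega)
  haveI : Y.IsLE 1 := (DerivedCategory.isLE_iff Y 1).2 fun j hj => hz j (by omega)
  obtain ⟨e⟩ := Groth.L10.exists_iso_single_H Y 1
  obtain ⟨s⟩ := nonempty_single_shift ((Scheme.Modules.pullback i).obj L) 1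
  exact ⟨(p.app O).symm ≪≫ e ≪≫ (DerivedCategory.singleFunctor D.Modules 1).mapIso h1 ≪≫ s⟩

end Cartier

section Curve

variable {S : Scheme.{u}} [CompactSpace S] [QuasiSeparatedSpace S] (f : X ⟶ S) [IsProper f] [Flat f]
  [LocallyOfFinitePresentation f] [SmoothOfRelativeDimension 1 f]

omit [CompactSpace S] [QuasiSeparatedSpace S] [Flat f] [LocallyOfFinitePresentation f] in
theorem isEffCartier_diagonal : BlowUp.IsEffCartierIdeal (pullback.diagonal f).ker :=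
  haveI : SmoothOfRelativeDimension 1 (pullback.fst f f) :=
    (smoothOfRelativeDimension_isStableUnderBaseChange (n := 1)).of_isPullback (IsPullback.of_hasPullback f f).flip inferInstance
  (Groth.L02.RelCartier.ker_section (pullback.fst f f) (pullback.diagonal f) (pullback.diagonal_fst f)).1

omit [CompactSpace S] [QuasiSeparatedSpace S] [Flat f] [LocallyOfFinitePresentation f] in
theorem isInvertible_omega : PicF.IsInvertible (Omega.sheaf f) :=
  Groth.L18.Ample.isInvertible_pullback _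
    ((Groth.Agent.L19.IdealInvertible.isEffCartier_iff _).2 (isEffCartier_diagonal f))

variable [DCoh.HasRpush f] {hf : DCoh.RpushPreservesQCoh f} {a : DCoh.DQCoh S ⥤ DCoh.DQCoh X}
  (adj : DCoh.RpushQ f hf ⊣ a) (O : DCoh.DQCoh S)

include adj in
set_option maxHeartbeats 1600000 in
/-- `K ⊗ N[-1] ≅ O` -/
theorem exists_tensor_iso (hO : Nonempty (O.obj ≅ DCoh.inD S (Coh.structureModule S))) :
    ∃ (N : X.Modules) (_ : DCoh.HasLTensorCx ((HomologicalComplex.single X.Modules (ComplexShape.up ℤ) 0).obj N)),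
      Nonempty (CohB1.tensorMod N (Omega.sheaf f) ≅ Coh.structureModule X) ∧ PicF.IsInvertible N ∧
      Nonempty (((DCoh.LTensorCx ((HomologicalComplex.single X.Modules (ComplexShape.up ℤ) 0).obj N)).obj
        (a.obj O).obj)⟦(-1 : ℤ)⟧ ≅ DCoh.inD X (Coh.structureModule X)) := by
  haveI : CompactSpace X := QuasiCompact.compactSpace_of_compactSpace f
  haveI := fun {A B : Scheme.{u}} (h : A ⟶ B) => RpushQC.hasRpush h
  haveI := fun {A B : Scheme.{u}} (h : A ⟶ B) => KFlat.hasLpull h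
  let P := pullback f f
  let p₁ : P ⟶ X := pullback.fst f f
  let p₂ : P ⟶ X := pullback.snd f f
  let Δ : X ⟶ P := pullback.diagonal f
  haveI : Dual3.HasHomO Δ := Groth.Lead.ClShriek.hasHomO Δ
  haveI := Groth.L17.ClosedPush.preservesColimits_push Δ
  haveI : PreservesColimitsOfSize.{0, 0} (Scheme.Modules.pushforward Δ) :=
    preservesColimitsOfSize_shrink.{0, u, 0, u} _
  haveI : PreservesFiniteColimits (Scheme.Modules.pushforward Δ) :=
    PreservesColimitsOfSize.preservesFiniteColimits _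
  haveI : PreservesLimitsOfSize.{0, 0} (Scheme.Modules.pushforward Δ) :=
    (Scheme.Modules.pullbackPushforwardAdjunction Δ).rightAdjoint_preservesLimits
  haveI : PreservesFiniteLimits (Scheme.Modules.pushforward Δ) := PreservesLimitsOfSize.preservesFiniteLimits _
  have hc := isEffCartier_diagonal f
  obtain ⟨L, hLi, ⟨eJL⟩⟩ := Groth.L08.Cube.exists_inverse ((Groth.Agent.L19.IdealInvertible.isEffCartier_iff _).2 hc)
  have hL : ClSub.IsInverseOf L (ClSub.idealMod Δ.ker) := ⟨Tensor.tensorComm _ _ ≪≫ eJL⟩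
  let N := (Scheme.Modules.pullback Δ).obj L
  have hNi : PicF.IsInvertible N := Groth.L18.Ample.isInvertible_pullback _ hLi
  have hNΩ : Nonempty (CohB1.tensorMod N (Omega.sheaf f) ≅ Coh.structureModule X) :=
    ⟨PullTensor.pullTensor Δ _ _ ≪≫ (Scheme.Modules.pullback Δ).mapIso hL.some ≪≫
      Groth.L29.LocFree.pullbackUnitIso Δ⟩
  let Ncx := (HomologicalComplex.single X.Modules (ComplexShape.up ℤ) 0).obj N
  have hNf : DCoh.IsKFlat Ncx :=
    KFlat.single _ (Groth.L29.DC.isFlat_of_isFinLocFree (Groth.L16.Existence.isFinLocFree_of_isInvertible hNi)) 0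
  haveI := KFlat.hasLTensorCx Ncx
  refine ⟨N, inferInstance, hNΩ, hNi, ?_⟩
  -- rigidity
  obtain ⟨ξ, -, -, hξ⟩ := Groth.Lead.RigidDual.isRelDualizing f adj O hO
  let OX := DCoh.inD X (Coh.structureModule X)
  let ω := (DCoh.Lpull p₁).obj (a.obj O).obj
  let adjS := Groth.Lead.ClShriek.adjSh Δ
  let v : OX ⟶ (Groth.Lead.ClShriek.Rsh Δ).obj ω := adjS.homEquiv _ _ ξ
  haveI : IsIso v := by
    refine isIso_of_yoneda_map_bijective _ fun M => ?_
    let e₀ : (M ⟶ OX) ≃ (M ⟶ OX⟦(0 : ℤ)⟧) := (Iso.refl M).homCongr ((shiftFunctorZero (DCoh.D X) ℤ).app OX).symm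
    let e₁ : ((Dual3.pushD Δ).obj M ⟶ ω⟦(0 : ℤ)⟧) ≃ (M ⟶ (Groth.Lead.ClShriek.Rsh Δ).obj ω) :=
      ((Iso.refl _).homCongr ((shiftFunctorZero (DCoh.D P) ℤ).app ω)).trans (adjS.homEquiv _ _)
    have key : (fun φ : M ⟶ OX => φ ≫ v) =
        e₁ ∘ (fun φ : M ⟶ OX⟦(0 : ℤ)⟧ => (Dual3.pushD Δ).map φ ≫
          ((Dual3.pushD Δ).commShiftIso (0 : ℤ)).hom.app OX ≫ (shiftFunctor (DCoh.D P) (0 : ℤ)).map ξ) ∘ e₀ := by
      funext φ
      have hn := (shiftFunctorZero (DCoh.D P) ℤ).hom.naturality ξ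
      dsimp at hn
      change φ ≫ adjS.homEquiv _ _ ξ = adjS.homEquiv _ _ (𝟙 _ ≫ ((Dual3.pushD Δ).map
        (𝟙 _ ≫ φ ≫ (shiftFunctorZero (DCoh.D X) ℤ).inv.app OX) ≫
          ((Dual3.pushD Δ).commShiftIso (0 : ℤ)).hom.app OX ≫ (shiftFunctor (DCoh.D P) (0 : ℤ)).map ξ) ≫
        (shiftFunctorZero (DCoh.D P) ℤ).hom.app ω)
      rw [Functor.commShiftIso_zero, Functor.CommShift.isoZero_hom_app, ← Adjunction.homEquiv_naturality_left]
      refine congrArg _ ?_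
      simp [← Functor.map_comp_assoc]
      erw [hn, Iso.inv_hom_id_app_assoc]
    rw [key]
    exact e₁.bijective.comp ((hξ M 0).comp e₀.bijective)
  -- the dual of `Δ_* O`
  let E := Groth.Lead.ClShriek.EZ Δ
  let R := (KFlat.RF P).obj E
  let r : R ⟶ E := (KFlat.rF P).app E
  haveI : QuasiIso r := KFlat.quasiIso_rF E
  haveI : IsIso (DerivedCategory.Q.map r) := (DerivedCategory.isIso_Q_map_iff_quasiIso _ r).2 inferInstance
  haveI := KFlat.hasLTensorCx R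
  haveI := RHom.hasRSheafHom R
  have hRE : Nonempty (DCoh.toD P R ≅ DCoh.inD P (Groth.Lead.ClShriek.OZ Δ)) :=
    ⟨asIso (DerivedCategory.Q.map r) ≪≫ ((DerivedCategory.singleFunctorIsoCompQ (P : Scheme.{u}).Modules 0).app _).symm⟩
  have hRp : DCoh.IsPerfect (DCoh.toD P R) := isPerfect_of_iso hRE.some.symm (isPerfect_OZ Δ hc)
  obtain ⟨t⟩ := Groth.Lead.ClShriek.nonempty_RSheafHom_iso Δ R hRE
  obtain ⟨s⟩ := nonempty_Rsh_O Δ L hL
  obtain ⟨D₀, qD, hD₀, -, hqD, -⟩ := KFlat.exists_resolution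
    (DerivedCategory.Q.objPreimage ((DCoh.RSheafHom R).obj (DCoh.toD P (RHom.O0 P))))
  haveI := (DerivedCategory.isIso_Q_map_iff_quasiIso _ qD).2 hqD
  let eD : DCoh.toD P D₀ ≅ (DCoh.RSheafHom R).obj (DCoh.toD P (RHom.O0 P)) :=
    asIso (DerivedCategory.Q.map qD) ≪≫ DerivedCategory.Q.objObjPreimageIso _
  haveI := KFlat.hasLTensorCx D₀
  obtain ⟨dual⟩ := EvalMain.nonempty_dual R D₀ (KFlat.isKFlat_RF E) hRp hD₀ ⟨eD⟩ ω
  obtain ⟨u0⟩ := EvalMain.nonempty_O0_iso (X := P)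
  let eD' : DCoh.toD P D₀ ≅ (Dual3.pushD Δ).obj ((DCoh.inD X N)⟦(-1 : ℤ)⟧) :=
    eD ≪≫ (DCoh.RSheafHom R).mapIso u0 ≪≫ t.app _ ≪≫ (Dual3.pushD Δ).mapIso s
  -- K-flat representatives
  obtain ⟨W₀, qW, hW₀, -, hqW, -⟩ := KFlat.exists_resolution (DerivedCategory.Q.objPreimage (a.obj O).obj)
  haveI := (DerivedCategory.isIso_Q_map_iff_quasiIso _ qW).2 hqW
  let eW : DerivedCategory.Q.obj W₀ ≅ (a.obj O).obj :=
    asIso (DerivedCategory.Q.map qW) ≪≫ DerivedCategory.Q.objObjPreimageIso _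
  let W := (Proj.pullCx p₁).obj W₀
  have hW : DCoh.IsKFlat W := KFlat.pullback_kflat p₁ W₀ hW₀
  let eω : DerivedCategory.Q.obj W ≅ ω :=
    (DerivedApi.objIso (DerivedApi.acyclicKFlat_pullback p₁) W₀ hW₀).symm ≪≫ (DCoh.Lpull p₁).mapIso eW
  haveI := KFlat.hasLTensorCx W
  let W' := (Proj.pullCx Δ).obj W
  have hW' : DCoh.IsKFlat W' := KFlat.pullback_kflat Δ W hW
  haveI := KFlat.hasLTensorCx W'
  obtain ⟨sym⟩ := nonempty_LTensor_symm W D₀ hW hD₀
  obtain ⟨pΔ⟩ := Groth.Lead.ClShriek.nonempty_pushD_iso Δ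
  obtain ⟨proj⟩ := ClosedProj.nonempty_projection Δ W hW ((DCoh.inD X N)⟦(-1 : ℤ)⟧)
  let big : (DCoh.Rpush Δ).obj OX ≅ (DCoh.Rpush Δ).obj ((DCoh.LTensorCx W').obj ((DCoh.inD X N)⟦(-1 : ℤ)⟧)) :=
    (DCoh.Rpush Δ).mapIso (asIso v) ≪≫ pΔ.app _ ≪≫ (t.app ω).symm ≪≫ dual.symm ≪≫
      (DCoh.LTensorCx D₀).mapIso eω.symm ≪≫ sym ≪≫
      (DCoh.LTensorCx W).mapIso (eD' ≪≫ (pΔ.app _).symm) ≪≫ proj
  obtain ⟨r₁⟩ := Groth.L10.FMDiag.nonempty_Rpush_id (X := X)
  let ρ : DCoh.Rpush Δ ⋙ DCoh.Rpush p₂ ≅ 𝟭 (DCoh.D X) := BC.cR (pullback.diagonal_snd f) ≪≫ r₁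
  let small : OX ≅ (DCoh.LTensorCx W').obj ((DCoh.inD X N)⟦(-1 : ℤ)⟧) :=
    (ρ.app OX).symm ≪≫ (DCoh.Rpush p₂).mapIso big ≪≫ ρ.app _
  -- `Δ^* pr₁^* W₀ = W₀`
  let ew : W' ≅ W₀ :=
    (DerivedApi.mapCxCompIso (Scheme.Modules.pullback p₁) (Scheme.Modules.pullback Δ)).app W₀ ≪≫
      (NatIso.mapHomologicalComplex (Scheme.Modules.pullbackComp Δ p₁ ≪≫
        Scheme.Modules.pullbackCongr (pullback.diagonal_fst f) ≪≫ Scheme.Modules.pullbackId X)
        (ComplexShape.up ℤ)).app W₀ ≪≫ (Functor.mapHomologicalComplexIdIso X.Modules (ComplexShape.up ℤ)).app W₀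
  let sN : DerivedCategory.Q.obj (Ncx⟦(-1 : ℤ)⟧) ≅ (DCoh.inD X N)⟦(-1 : ℤ)⟧ :=
    (DerivedCategory.Q.commShiftIso (-1 : ℤ)).app Ncx ≪≫ (shiftFunctor (DCoh.D X) (-1 : ℤ)).mapIso
      ((DerivedCategory.singleFunctorIsoCompQ X.Modules 0).app N).symm
  let swap : (DCoh.LTensorCx W').obj (DerivedCategory.Q.obj (Ncx⟦(-1 : ℤ)⟧)) ≅
      ((DCoh.LTensorCx Ncx).obj (DerivedCategory.Q.obj W'))⟦(-1 : ℤ)⟧ :=
    (Assoc.allIso W' hW').app _ ≪≫ DerivedCategory.Q.mapIso ((RHom.flipIso W').app _).symm ≪≫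
      DerivedCategory.Q.mapIso (Groth.L29.BC.PFShift.σ W' Ncx (-1 : ℤ)) ≪≫
      (DerivedCategory.Q.commShiftIso (-1 : ℤ)).app _ ≪≫
      (shiftFunctor (DCoh.D X) (-1 : ℤ)).mapIso ((Assoc.allIso Ncx hNf).app W').symm
  exact ⟨(shiftFunctor (DCoh.D X) (-1 : ℤ)).mapIso ((DCoh.LTensorCx Ncx).mapIso
      (eW.symm ≪≫ DerivedCategory.Q.mapIso ew.symm)) ≪≫ swap.symm ≪≫ (DCoh.LTensorCx W').mapIso sN ≪≫ small.symm⟩

/-- `single M ⊗ single M'` -/
def singleTensorIso (M M' : X.Modules) :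
    (DCoh.tensorCx.obj ((HomologicalComplex.single X.Modules (ComplexShape.up ℤ) 0).obj M)).obj
        ((HomologicalComplex.single X.Modules (ComplexShape.up ℤ) 0).obj M') ≅
      (HomologicalComplex.single X.Modules (ComplexShape.up ℤ) 0).obj (CohB1.tensorMod M M') :=
  (SingleTotal.iso (DCoh.tensorBi (X := X)) M _).symm ≪≫
    (HomologicalComplex.singleMapHomologicalComplex ((DCoh.tensorBi (X := X)).obj M) (ComplexShape.up ℤ) 0).app M'

include adj in
/-- the relative dualizing complex of a smooth curve is `Ω[1]` -/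
theorem nonempty_iso_omega_shift (hO : Nonempty (O.obj ≅ DCoh.inD S (Coh.structureModule S))) :
    Nonempty ((a.obj O).obj ≅ (DCoh.inD X (Omega.sheaf f))⟦(1 : ℤ)⟧) := by
  obtain ⟨N, _, ⟨eNΩ⟩, hN, ⟨e⟩⟩ := exists_tensor_iso f adj O hO
  let s0 := HomologicalComplex.single X.Modules (ComplexShape.up ℤ) 0
  let Ncx := s0.obj N
  let Ωcx := s0.obj (Omega.sheaf f)
  have hΩf : DCoh.IsKFlat Ωcx := KFlat.single _
    (Groth.L29.DC.isFlat_of_isFinLocFree (Groth.L16.Existence.isFinLocFree_of_isInvertible (isInvertible_omega f))) 0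
  have hOf : DCoh.IsKFlat (RHom.O0 X) := KFlat.single _ (isFlat_structureModule X) 0
  haveI := KFlat.hasLTensorCx Ωcx
  haveI := KFlat.hasLTensorCx (RHom.O0 X)
  haveI := KFlat.hasLTensorCx ((DCoh.tensorCx.obj Ncx).obj Ωcx)
  let K := (a.obj O).obj
  let eN : (DCoh.LTensorCx Ncx).obj K ≅ (DCoh.inD X (Coh.structureModule X))⟦(1 : ℤ)⟧ :=
    ((shiftFunctorCompIsoId (DCoh.D X) (-1 : ℤ) 1 (by omega)).app _).symm ≪≫
      (shiftFunctor (DCoh.D X) (1 : ℤ)).mapIso e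
  -- `- ⊗ N ⊗ Ω = id`
  obtain ⟨c⟩ := Assoc.nonempty_LTensor_comp Ncx Ωcx hΩf
  let eT : (DCoh.tensorCx.obj Ncx).obj Ωcx ≅ RHom.O0 X := singleTensorIso N _ ≪≫ s0.mapIso eNΩ
  obtain ⟨t⟩ := RHom.nonempty_lt_iso (E := (DCoh.tensorCx.obj Ncx).obj Ωcx) (E' := RHom.O0 X)
    (DerivedCategory.Q.mapIso eT)
  let G := DerivedCategory.Q.objPreimage K
  let eG : DerivedCategory.Q.obj G ≅ K := DerivedCategory.Q.objObjPreimageIso K
  let left : (DCoh.LTensorCx Ωcx).obj ((DCoh.LTensorCx Ncx).obj K) ≅ K :=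
    c.app K ≪≫ t.app K ≪≫ (DCoh.LTensorCx (RHom.O0 X)).mapIso eG.symm ≪≫ (Assoc.allIso _ hOf).app G ≪≫
      DerivedCategory.Q.mapIso (RHom.unitCxIso.app G) ≪≫ eG
  let sO : DerivedCategory.Q.obj ((RHom.O0 X)⟦(1 : ℤ)⟧) ≅ (DCoh.inD X (Coh.structureModule X))⟦(1 : ℤ)⟧ :=
    (DerivedCategory.Q.commShiftIso (1 : ℤ)).app _ ≪≫ (shiftFunctor (DCoh.D X) (1 : ℤ)).mapIso
      ((DerivedCategory.singleFunctorIsoCompQ X.Modules 0).app _).symm
  let right : (DCoh.LTensorCx Ωcx).obj ((DCoh.inD X (Coh.structureModule X))⟦(1 : ℤ)⟧) ≅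
      (DCoh.inD X (Omega.sheaf f))⟦(1 : ℤ)⟧ :=
    (DCoh.LTensorCx Ωcx).mapIso sO.symm ≪≫ (Assoc.allIso Ωcx hΩf).app _ ≪≫
      DerivedCategory.Q.mapIso ((RHom.flipIso Ωcx).app _).symm ≪≫
      DerivedCategory.Q.mapIso (Groth.L29.BC.PFShift.σ Ωcx (RHom.O0 X) (1 : ℤ)) ≪≫
      (DerivedCategory.Q.commShiftIso (1 : ℤ)).app _ ≪≫
      (shiftFunctor (DCoh.D X) (1 : ℤ)).mapIso (DerivedCategory.Q.mapIso (singleTensorIso (Omega.sheaf f) _ ≪≫
          s0.mapIso (Tensor.tensorUnitRight _)) ≪≫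
        ((DerivedCategory.singleFunctorIsoCompQ X.Modules 0).app _).symm)
  exact ⟨left.symm ≪≫ (DCoh.LTensorCx Ωcx).mapIso eN ≪≫ right⟩

end Curve

end Groth.L21.CurveRD
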