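import Groth.Agent.L21.CurveRD.Trace
import Groth.Agent.L21.CurveRD.Dim
import Groth.Agent.L17.BC.LocFree
import Groth.Agent.L17.BC.Flattening
import Groth.Agent.L17.BC.Bc0Apply

/-!
Direct images of the differentials of a smooth proper curve: `R¹f_* Ω` is invertible, `f_* Ω` is locally free and
commutes with base change.
-/

set_option autoImplicit false
set_option linter.style.haveILetI false
set_option linter.unusedSectionVars false
set_option backward.isDefEq.respectTransparency false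
set_option backward.isDefEq.respectTransparency.types false

universe u

open CategoryTheory CategoryTheory.Limits AlgebraicGeometry TopologicalSpace
open scoped TensorProduct
open Groth.L17.BC Groth.L17.BC.Classes
open Groth.L01.FlatCx (mu)

noncomputable section

namespace Groth.L21.CurveRD

section Alg

variable {A : Type u} [CommRing A] {P M : Type u} [AddCommGroup P] [Module A P] [Module.Finite A P]
  [AddCommGroup M] [Module A M]

/-- a module of fibre dimension one, finite near the point, surjecting onto the ring is free near the point -/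
theorem exists_retr_of_surjective {x : PrimeSpectrum A} (g : P →ₗ[A] M) {r₁ : A} (hr₁ : r₁ ∉ x.asIdeal)
    (hg : ∀ m : M, r₁ • m ∈ LinearMap.range g) (π : M →ₗ[A] A) (hπ : Function.Surjective π)
    (hmu : mu (A := A) M x = 1) : ∃ r, r ∉ x.asIdeal ∧ Retr A M r := by
  obtain ⟨m₀, hm₀⟩ := hπ 1
  let s : A →ₗ[A] M := LinearMap.toSpanSingleton A M m₀
  let c : M →ₗ[A] LinearMap.ker π := LinearMap.codRestrict _ (LinearMap.id - s ∘ₗ π) fun m => by
    simp [s, hm₀]
  let ι := (LinearMap.ker π).subtype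
  have hc : ∀ z : LinearMap.ker π, c z.1 = z := fun z => Subtype.ext (by simp [c, s, LinearMap.mem_ker.1 z.2])
  let κ := x.asIdeal.ResidueField
  -- the fibre of the kernel vanishes
  let pr : κ ⊗[A] M →ₗ[κ] (κ ⊗[A] A) × (κ ⊗[A] LinearMap.ker π) := (π.baseChange κ).prod (c.baseChange κ)
  have hpr : Function.Surjective pr := by
    rintro ⟨a, b⟩
    refine ⟨s.baseChange κ a + ι.baseChange κ b, ?_⟩
    have h1 : π ∘ₗ s = LinearMap.id := LinearMap.ext_ring (by simp [s, hm₀])
    have h2 : π ∘ₗ ι = 0 := LinearMap.ext fun z => LinearMap.mem_ker.1 z.2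
    have h3 : c ∘ₗ s = 0 := LinearMap.ext_ring (Subtype.ext (by simp [c, s, hm₀]))
    have h4 : c ∘ₗ ι = LinearMap.id := LinearMap.ext hc
    refine Prod.ext ?_ ?_ <;> simp only [pr, map_add, Prod.fst_add, Prod.snd_add]
    · show π.baseChange κ (s.baseChange κ a) + π.baseChange κ (ι.baseChange κ b) = a
      rw [← LinearMap.comp_apply, ← LinearMap.baseChange_comp, h1, LinearMap.baseChange_id,
        ← LinearMap.comp_apply, ← LinearMap.baseChange_comp, h2, LinearMap.baseChange_zero]
      exact add_zero a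
    · show c.baseChange κ (s.baseChange κ a) + c.baseChange κ (ι.baseChange κ b) = b
      rw [← LinearMap.comp_apply, ← LinearMap.baseChange_comp, h3, LinearMap.baseChange_zero,
        ← LinearMap.comp_apply, ← LinearMap.baseChange_comp, h4, LinearMap.baseChange_id]
      exact zero_add b
  have hM : Module.finrank κ (κ ⊗[A] M) = 1 := hmu
  haveI : Module.Finite κ (κ ⊗[A] M) := Module.finite_of_finrank_eq_succ hM
  haveI : Module.Finite κ (κ ⊗[A] LinearMap.ker π) :=
    Module.Finite.of_surjective ((LinearMap.snd κ _ _).comp pr) (Prod.snd_surjective.comp hpr)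
  haveI : Subsingleton (κ ⊗[A] LinearMap.ker π) := by
    have h := LinearMap.finrank_le_finrank_of_injective (f := LinearMap.dualMap pr) (LinearMap.dualMap_injective_of_surjective hpr)
    rw [Subspace.dual_finrank_eq, Subspace.dual_finrank_eq, hM, Module.finrank_prod,
      (TensorProduct.AlgebraTensorModule.rid A κ κ).finrank_eq, Module.finrank_self] at h
    exact Module.finrank_zero_iff.1 (show Module.finrank κ (κ ⊗[A] LinearMap.ker π) = 0 by omega)
  -- the kernel is killed near the point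
  let K' := LinearMap.range (c ∘ₗ g)
  have hmem : ∀ z : LinearMap.ker π, r₁ • z ∈ K' := fun z => by
    obtain ⟨v, hv⟩ := hg z.1
    exact ⟨v, by rw [LinearMap.comp_apply, hv, map_smul, hc]⟩
  let j : LinearMap.ker π →ₗ[A] K' := LinearMap.codRestrict K' (r₁ • LinearMap.id) hmem
  haveI : Subsingleton (κ ⊗[A] K') := by
    refine subsingleton_of_forall_eq 0 fun t => ?_
    have h : j.baseChange κ ∘ₗ K'.subtype.baseChange κ = (algebraMap A κ r₁) • LinearMap.id := by
      rw [← LinearMap.baseChange_comp, show j ∘ₗ K'.subtype = r₁ • LinearMap.id from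
        LinearMap.ext fun z => Subtype.ext rfl, LinearMap.baseChange_smul, LinearMap.baseChange_id]
      exact LinearMap.ext fun w => (algebraMap_smul κ r₁ w).symm
    have h' := LinearMap.congr_fun h t
    rw [LinearMap.comp_apply, Subsingleton.elim (K'.subtype.baseChange κ t) 0, map_zero, LinearMap.smul_apply,
      LinearMap.id_apply] at h'
    exact (smul_eq_zero.1 h'.symm).resolve_left fun e => hr₁ (Ideal.algebraMap_residueField_eq_zero.1 e)
  haveI : Module.Finite A K' := Module.Finite.range _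
  obtain ⟨r₂, hr₂, hK⟩ := exists_smul_eq_zero (A := A) K' κ
  have hx : PrimeSpectrum.comap (algebraMap A κ) ⊥ = x := PrimeSpectrum.ext (by
    show Ideal.comap (algebraMap A κ) ⊥ = _
    rw [← RingHom.ker_eq_comap_bot, Ideal.ker_algebraMap_residueField])
  rw [hx] at hr₂
  refine ⟨r₂ * r₁, fun h => (x.2.mem_or_mem h).elim hr₂ hr₁, ?_⟩
  refine retr_of_retract (r₂ * r₁) ((r₂ * r₁) • s) π fun m => ?_
  have h := congrArg (fun z : K' => ((z : LinearMap.ker π) : M)) (hK (j (c m)))
  simp only [j, c, s, LinearMap.codRestrict_apply, Submodule.coe_smul, LinearMap.smul_apply, LinearMap.id_apply,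
    LinearMap.sub_apply, LinearMap.comp_apply, LinearMap.toSpanSingleton_apply, smul_sub, ZeroMemClass.coe_zero,
    sub_eq_zero, smul_smul] at h ⊢
  exact h.symm

end Alg

open Groth.L29.DC in
theorem isQCoh_omega {X S : Scheme.{u}} (f : X ⟶ S) [IsProper f] [SmoothOfRelativeDimension 1 f] :
    Coh.IsQCoh (Omega.sheaf f) :=
  PCQCoh.isQCoh_of_isFinLocFree (Groth.L16.Existence.isFinLocFree_of_isInvertible (isInvertible_omega f))

variable {X S : Scheme.{u}} (f : X ⟶ S) [IsProper f] [SmoothOfRelativeDimension 1 f] [GeometricallyConnected f]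

theorem fibre_dim (s : S) : topologicalKrullDim ↥(f.fiber s) = 1 := by
  haveI : Smooth f := SmoothOfRelativeDimension.smooth 1 f
  obtain ⟨-, -, -, hint⟩ := Groth.L21.OmegaFam.fibre_facts f s
  haveI := hint
  haveI : SmoothOfRelativeDimension 1 (f.fiberToSpecResidueField s) :=
    (smoothOfRelativeDimension_isStableUnderBaseChange (n := 1)).of_isPullback
      (IsPullback.of_hasPullback f (S.fromSpecResidueField s)) inferInstance
  exact topologicalKrullDim_eq_one (k := S.residueField s) (f.fiberToSpecResidueField s)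

theorem isFP_omega : CohB1.IsFP (Omega.sheaf f) :=
  Groth.L18.LFP.isFP_of_isFinLocFree _ (Groth.L16.Existence.isFinLocFree_of_isInvertible (isInvertible_omega f))

theorem isFlatOver_omega : FlatMod.IsFlatOver f (Omega.sheaf f) :=
  haveI : Smooth f := SmoothOfRelativeDimension.smooth 1 f
  Groth.L29.DC.RelTor.isFlatOver_of_isFlat f (Groth.L21.RR.isFlat_of_isInvertible (isInvertible_omega f))

theorem fibre_rank (s : S) :
    CohIII.fiberRank f (Omega.sheaf f) 1 s = 1 ∧
      CohIII.fiberRank f (Omega.sheaf f) 0 s =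
        (letI : (f.fiber s).Over (Spec (S.residueField s)) := ⟨f.fiberToSpecResidueField s⟩
        Curv2.genus (S.residueField s) (f.fiber s)) := by
  haveI : Smooth f := SmoothOfRelativeDimension.smooth 1 f
  obtain ⟨hp, hsm, hgi, hint⟩ := Groth.L21.OmegaFam.fibre_facts f s
  haveI := hp
  letI : (f.fiber s).Over (Spec (CommRingCat.of (S.residueField s))) := ⟨f.fiberToSpecResidueField s⟩
  haveI : IsProper (f.fiber s ↘ Spec (CommRingCat.of (S.residueField s))) := hp
  haveI : Smooth (f.fiber s ↘ Spec (CommRingCat.of (S.residueField s))) := hsm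
  haveI : GeometricallyIntegral (f.fiber s ↘ Spec (CommRingCat.of (S.residueField s))) := hgi
  haveI := hint
  haveI := Groth.L21.RR.isNoetherian_of_proper (X := f.fiber s) (S.residueField s)
  have hd := fibre_dim f s
  have h0 : Groth.L21.RR.h (S.residueField s) 0 (Coh.structureModule (f.fiber s)) = 1 :=
    Groth.L21.RR.h0_eq_one_of_geometricallyIntegral (X := f.fiber s) (S.residueField s) hd
  have hinv := Groth.L21.Duality.omega_invariants (k := S.residueField s) (X := f.fiber s) hd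
  obtain ⟨e⟩ := Groth.L21.OmegaFam.nonempty_pullback_omega
    (IsPullback.of_hasPullback f (S.fromSpecResidueField s))
  let e' : CohIII.fiberMod f (Omega.sheaf f) s ≅ Omega.sheaf (f.fiber s ↘ Spec (CommRingCat.of (S.residueField s))) := e
  exact ⟨(Groth.L03.Euler.finrank_HH_of_iso (k := S.residueField s) e' 1).trans (hinv.2.1.trans h0),
    (Groth.L03.Euler.finrank_HH_of_iso (k := S.residueField s) e' 0).trans hinv.1⟩

/-- sections of the trace over an affine open -/
theorem exists_surjective_sections [HasInjectiveResolutions X.Modules] {V : S.Opens} (hV : IsAffineOpen V) :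
    ∃ π : Γ((Coh.Rpush f 1).obj (Omega.sheaf f), V) →ₗ[Γ(S, V)] Γ(S, V), Function.Surjective π := by
  let g : ↑(f ⁻¹ᵁ V) ⟶ Spec Γ(S, V) := fV f hV
  have sq : IsPullback (f ⁻¹ᵁ V).ι g f hV.fromSpec := isPullback_ι_fV f hV
  haveI : IsProper g := MorphismProperty.of_isPullback sq inferInstance
  haveI : SmoothOfRelativeDimension 1 g :=
    (smoothOfRelativeDimension_isStableUnderBaseChange (n := 1)).of_isPullback sq inferInstance
  haveI : GeometricallyConnected g := MorphismProperty.of_isPullback sq inferInstance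
  haveI := Groth.L17.PushQCoh.hasInjectiveResolutions (f ⁻¹ᵁ V : Scheme.{u})
  obtain ⟨t, ht⟩ := exists_epi_trace g
  haveI := ht
  haveI := isQCoh_omega f
  haveI := Groth.L17.PushQCoh.isQCoh_Rpush f (Omega.sheaf f) 1
  obtain ⟨eR⟩ := Groth.L17.PushQCoh.nonempty_Rpush_restrict_iso f hV.fromSpec (f ⁻¹ᵁ V).ι g
    (by rw [hV.opensRange_fromSpec, Scheme.Opens.opensRange_ι]) (fV_fromSpec f hV) (Omega.sheaf f) 1
  obtain ⟨eΩ⟩ := Groth.L21.OmegaFam.nonempty_pullback_omega sq
  let eΩ' : (Omega.sheaf f).restrict (f ⁻¹ᵁ V).ι ≅ Omega.sheaf g :=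
    (Scheme.Modules.restrictFunctorIsoPullback _).app _ ≪≫ eΩ
  obtain ⟨N, e, ⟨ε⟩⟩ := exists_chart ((Coh.Rpush f 1).obj (Omega.sheaf f)) hV
  let ψ : (tilde.functor Γ(S, V)).obj N ⟶ (tilde.functor Γ(S, V)).obj (ModuleCat.of Γ(S, V) Γ(S, V)) :=
    e.inv ≫ eR.hom ≫ (Coh.Rpush g 1).map eΩ'.hom ≫ t ≫ tildeSelf.inv
  haveI : Epi ψ := inferInstance
  let π₀ := (tilde.functor Γ(S, V)).preimage ψ
  haveI : Epi π₀ := by
    haveI : Epi ((tilde.functor Γ(S, V)).map π₀) := by rw [Functor.map_preimage]; infer_instance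
    exact (tilde.functor Γ(S, V)).epi_of_epi_map ‹_›
  exact ⟨π₀.hom.comp ε.symm.toLinearMap,
    ((ModuleCat.epi_iff_surjective π₀).1 inferInstance).comp ε.symm.surjective⟩

/-- all differentials of the complex of an affine open split -/
theorem split_everywhere [HasInjectiveResolutions X.Modules] {V : S.Opens} (hV : IsAffineOpen V)
    (l : FreeBC0 f (Omega.sheaf f) V) (y : S) (hy : y ∈ V) :
    l.free.Split hV 1 hy ∧ l.free.Split hV 0 hy := by
  haveI : Smooth f := SmoothOfRelativeDimension.smooth 1 f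
  haveI := isQCoh_omega f
  have hv : Subsingleton (CohIII.fiberH f (Omega.sheaf f) y 2) :=
    Groth.L12.CurveFam.subsingleton_fiberH_of_dim f y (d := 1) (fibre_dim f y).le _ Nat.one_lt_two
  have h1 : l.free.Split hV 1 hy := l.free.split_prev hV hy 2 1 rfl hv (l.free.split_of_vanishing hV hy 2 hv)
  refine ⟨h1, ?_⟩
  obtain ⟨Δ⟩ := nonempty_derivedLES f
  obtain ⟨π, hπ⟩ := exists_surjective_sections f hV
  obtain ⟨θ, hθ, -⟩ := l.free.cls Δ 1
  obtain ⟨r₁, σ, hr₁, hσ⟩ := id h1
  let q : l.free.L.X ((1 : ℕ) : ℤ) →ₗ[Γ(S, V)] LinearMap.ker (l.free.L.d ((1 : ℕ) : ℤ) (((1 : ℕ) : ℤ) + 1)).hom :=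
    LinearMap.codRestrict _ (r₁ • LinearMap.id - σ ∘ₗ (l.free.L.d ((1 : ℕ) : ℤ) (((1 : ℕ) : ℤ) + 1)).hom) fun v => by
      rw [LinearMap.mem_ker, LinearMap.sub_apply, map_sub, LinearMap.smul_apply, LinearMap.id_apply, map_smul,
        LinearMap.comp_apply, hσ, sub_self]
  haveI := l.free.finite ((1 : ℕ) : ℤ)
  obtain ⟨r, hr, hT⟩ := exists_retr_of_surjective (θ.comp q) hr₁ (fun m => by
      obtain ⟨z, rfl⟩ := hθ m
      refine ⟨z.1, ?_⟩
      rw [LinearMap.comp_apply, ← map_smul]
      exact congrArg θ (Subtype.ext (by simp [q, LinearMap.mem_ker.1 z.2]))) π hπ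
    ((l.free.fiberRank_eq hV Δ hy 1 h1).symm.trans (fibre_rank f y).1)
  have h := l.free.split_prev_of_retr hV Δ hy 1 h1 hr hT
  have tr : ∀ i j : ℤ, i = ((1 : ℕ) : ℤ) - 1 → j = ((1 : ℕ) : ℤ) →
      SplitAt (l.free.L.d i j).hom (hV.primeIdealOf ⟨y, hy⟩) := by
    rintro _ _ rfl rfl; exact h
  exact tr _ _ (by norm_num) (by norm_num)

/-- `R¹f_* Ω` is free of rank one near every point -/
theorem isFinLocFreeOfRank_Rpush_one [HasInjectiveResolutions X.Modules] :
    FlatMod.IsFinLocFreeOfRank 1 ((Coh.Rpush f 1).obj (Omega.sheaf f)) := fun y => by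
  haveI : Smooth f := SmoothOfRelativeDimension.smooth 1 f
  haveI := isQCoh_omega f
  obtain ⟨Δ⟩ := nonempty_derivedLES f
  obtain ⟨V, hV, l, hyV⟩ := exists_freeBC0 f (Omega.sheaf f) (isFP_omega f) (isFlatOver_omega f) y
  have tr : ∀ i j : ℤ, i = ((0 : ℕ) : ℤ) → j = ((0 : ℕ) : ℤ) + 1 →
      SplitAt (l.free.L.d i j).hom (hV.primeIdealOf ⟨y, hyV⟩) := by
    rintro _ _ rfl rfl; exact (split_everywhere f hV l y hyV).2
  obtain ⟨W, hyW, hW, -⟩ := l.free.exists_locFree hV Δ hyV 1 (split_everywhere f hV l y hyV).1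
    (tr _ _ (by norm_num) (by norm_num))
  obtain ⟨U, n, hyU, ⟨i⟩⟩ := hW y hyW
  obtain ⟨_, ⟨V', hV', rfl⟩, hyV', hV'U⟩ := S.isBasis_affineOpens.exists_subset_of_mem_open hyU U.2
  obtain ⟨l'⟩ := nonempty_freeBC0 f (Omega.sheaf f) hV' (isFP_omega f) (isFlatOver_omega f)
  haveI := Groth.L17.PushQCoh.isQCoh_Rpush f (Omega.sheaf f) 1
  have hn := ((l'.free.fiberRank_eq hV' Δ hyV' 1 (split_everywhere f hV' l' y hyV').1).trans
    (mu_eq_of_restrict _ hV' hV'U i _)).symm.trans (fibre_rank f y).1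
  subst hn
  exact ⟨U, hyU, ⟨i⟩⟩

theorem forall_split0 [HasInjectiveResolutions X.Modules] : ∀ y ∈ (⊤ : S.Opens),
    ∃ (V : S.Opens) (hV : IsAffineOpen V) (l : FreeBC0 f (Omega.sheaf f) V),
      y ∈ V ∧ ∀ y' (hy' : y' ∈ V), y' ∈ (⊤ : S.Opens) → l.free.Split hV 0 hy' := fun y _ => by
  haveI : Smooth f := SmoothOfRelativeDimension.smooth 1 f
  haveI := isQCoh_omega f
  obtain ⟨V, hV, l, hyV⟩ := exists_freeBC0 f (Omega.sheaf f) (isFP_omega f) (isFlatOver_omega f) y
  exact ⟨V, hV, l, hyV, fun y' hy' _ => (split_everywhere f hV l y' hy').2⟩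

/-- `f_* Ω` is locally free, of rank the genus of the fibre -/
theorem exists_free_push [HasInjectiveResolutions X.Modules] (y : S) :
    ∃ (U : S.Opens) (n : ℕ), y ∈ U ∧
      Nonempty (((Scheme.Modules.pushforward f).obj (Omega.sheaf f)).restrict U.ι ≅ FlatMod.freeMod (↑U) n) ∧
      CohIII.fiberRank f (Omega.sheaf f) 0 y = n := by
  haveI : Smooth f := SmoothOfRelativeDimension.smooth 1 f
  haveI := isQCoh_omega f
  obtain ⟨Δ⟩ := nonempty_derivedLES f
  obtain ⟨V, hV, l, hyV, hl⟩ := forall_split0 f y trivial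
  obtain ⟨W, hyW, hW, -⟩ := l.exists_locFree hV Δ hyV (hl y hyV trivial)
  obtain ⟨U, n, hyU, ⟨i⟩⟩ := hW y hyW
  obtain ⟨_, ⟨V', hV', rfl⟩, hyV', hV'U⟩ := S.isBasis_affineOpens.exists_subset_of_mem_open hyU U.2
  obtain ⟨l'⟩ := nonempty_freeBC0 f (Omega.sheaf f) hV' (isFP_omega f) (isFlatOver_omega f)
  obtain ⟨θ⟩ := nonempty_Rpush_zero_iso f (Omega.sheaf f)
  haveI := Groth.L17.PushQCoh.isQCoh_Rpush f (Omega.sheaf f) 0
  exact ⟨U, n, hyU, ⟨i⟩, (l'.free.fiberRank_eq hV' Δ hyV' 0 (split_everywhere f hV' l' y hyV').2).trans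
    (mu_eq_of_restrict _ hV' hV'U ((Scheme.Modules.restrictFunctor U.ι).mapIso θ ≪≫ i) _)⟩

theorem isFinLocFree_push [HasInjectiveResolutions X.Modules] :
    FlatMod.IsFinLocFree ((Scheme.Modules.pushforward f).obj (Omega.sheaf f)) := fun y => by
  obtain ⟨U, n, hy, i, -⟩ := exists_free_push f y
  exact ⟨U, n, hy, i⟩

theorem isIso_bc0 [HasInjectiveResolutions X.Modules] {T X' : Scheme.{u}} {b : T ⟶ S} {f' : X' ⟶ T} {b' : X' ⟶ X}
    (sq : IsPullback b' f' f b) : IsIso (CohBC.bc0 f b f' b' sq.w (Omega.sheaf f)) := by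
  haveI : Smooth f := SmoothOfRelativeDimension.smooth 1 f
  haveI := isQCoh_omega f
  exact Groth.L17.BC.Classes.isIso_bc0 sq (U := ⊤) (fun _ => trivial) (forall_split0 f)

end Groth.L21.CurveRD
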