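import Groth.Agent.L21.CurveRD.Identify
import Groth.Agent.Lead.SplitH0
import Groth.Agent.L12.CurveFam.R1
import Groth.Agent.L21.OmegaFam.Pow

/-!
The trace `R¹f_* Ω ⟶ O` of a smooth proper curve over an affine base is surjective.
-/

set_option autoImplicit false
set_option linter.style.haveILetI false
set_option backward.defeqAttrib.useBackward true
set_option backward.isDefEq.respectTransparency false
set_option backward.isDefEq.respectTransparency.types false

universe u

open CategoryTheory CategoryTheory.Limits AlgebraicGeometry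

attribute [local instance] HasDerivedCategory.standard

noncomputable section

namespace Groth.L21.CurveRD

open Groth.L00 Groth.L29 Groth.L29.DC

theorem finLocFree_structureModule (X : Scheme.{u}) : FlatMod.IsFinLocFree (Coh.structureModule X) :=
  Groth.L16.Existence.isFinLocFree_of_isInvertible (Groth.L18.Ample.isInvertible_structureModule _)

/-- `H⁰` of the direct image of `M[1]` is the first higher direct image -/
theorem nonempty_HD_push_shift {X Y : Scheme.{u}} (f : X ⟶ Y) [CompactSpace Y] [QuasiSeparatedSpace Y] [QuasiCompact f] [QuasiSeparated f]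
    [DCoh.HasRpush f] [HasInjectiveResolutions X.Modules] (M : X.Modules) [Coh.IsQCoh M] :
    Nonempty (DCoh.HD ((DCoh.Rpush f).obj ((DCoh.inD X M)⟦(1 : ℤ)⟧)) 0 ≅ (Coh.Rpush f 1).obj M) := by
  haveI : HasInjectiveResolutions (ModSite.Mod X.sheaf) := ‹HasInjectiveResolutions X.Modules›
  haveI : EnoughInjectives X.Modules := (Groth.L10.ModRDer.insts X.sheaf).1
  haveI := Groth.L17.PushQCoh.additive_push f
  obtain ⟨N, hN⟩ := RpushQC.exists_bound f
  obtain ⟨-, -, h3⟩ := Groth.L10.RDerBound.single_H (F := Scheme.Modules.pushforward f)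
    ((DCoh.pushKh f).totalRightDerivedUnit DerivedCategory.Qh
      (HomotopyCategory.quasiIso X.Modules (ComplexShape.up ℤ)))
    (-1) M N (fun p hp => hN _ ‹_› p (by omega))
  obtain ⟨s⟩ := nonempty_single_shift M (-1)
  exact ⟨(DerivedCategory.homologyFunctor Y.Modules 0).mapIso ((DCoh.Rpush f).mapIso (s.symm ≪≫ Iso.refl _)) ≪≫
    eqToIso (by norm_num) ≪≫ (h3 1).some⟩

variable {X : Scheme.{u}} {R : CommRingCat.{u}} (f : X ⟶ Spec R) [IsProper f] [SmoothOfRelativeDimension 1 f]
  [GeometricallyConnected f]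

include f in
/-- the trace is surjective -/
theorem exists_epi_trace [HasInjectiveResolutions X.Modules] :
    ∃ t : (Coh.Rpush f 1).obj (Omega.sheaf f) ⟶ Coh.structureModule (Spec R), Epi t := by
  haveI : Smooth f := SmoothOfRelativeDimension.smooth 1 f
  haveI : CompactSpace X := QuasiCompact.compactSpace_of_compactSpace f
  haveI : QuasiSeparatedSpace X := quasiSeparatedSpace_of_quasiSeparated f
  haveI := fun {A B : Scheme.{u}} (h : A ⟶ B) => RpushQC.hasRpush h
  haveI := fun {A B : Scheme.{u}} (h : A ⟶ B) => KFlat.hasLpull h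
  have hR : DCoh.RpushPreservesQCoh f := fun K hK => RpushQC.isQCohD_Rpush f K hK
  obtain ⟨a, ⟨adj⟩⟩ : ∃ a, Nonempty (DCoh.RpushQ f hR ⊣ a) := by
    haveI := Groth.Agent.S1766.result X (Spec R) f hR
    exact ⟨_, ⟨Adjunction.ofIsLeftAdjoint (DCoh.RpushQ f hR)⟩⟩
  let OS : DCoh.DQCoh (Spec R) := ⟨DCoh.inD _ (Coh.structureModule _), Groth.L29.RelPC.isQCohD_unit (Spec R)⟩
  obtain ⟨k⟩ := nonempty_iso_omega_shift f adj OS ⟨Iso.refl _⟩
  let OX : DCoh.DQCoh X := ⟨DCoh.inD X (Coh.structureModule X), Groth.L29.RelPC.isQCohD_unit X⟩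
  -- the functions split off
  have hq : ∀ {Z' T : Scheme.{u}} (g' : Z' ⟶ X) (q' : Z' ⟶ T) (g : T ⟶ Spec R),
      IsPullback g' q' f g → ∀ U, IsIso (q'.app U) := fun g' q' g h U =>
    Groth.L20.DescLocus.isIso_app_universally f (fun y W => Groth.L12.CurveFam.isIso_fiber_app f y W) g' q' g h U
  haveI : ∀ A B : DCoh.D (Spec R), HasBinaryBiproduct A B := fun A B => inferInstance
  obtain ⟨C, b, -, -, ⟨e⟩⟩ := Groth.Lead.SplitH0.exists_split f hq
  let φ : (DCoh.RpushQ f hR).obj OX ⟶ OS := ObjectProperty.homMk (e.hom ≫ biprod.fst)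
  let v : OX ⟶ a.obj OS := adj.homEquiv _ _ φ
  have hv : (DCoh.RpushQ f hR).map v ≫ adj.counit.app OS = φ :=
    (Adjunction.homEquiv_counit (adj := adj) OX OS v).symm.trans (Equiv.symm_apply_apply _ _)
  have hv' : (DCoh.Rpush f).map v.hom ≫ (adj.counit.app OS).hom = e.hom ≫ biprod.fst :=
    congrArg (fun q => q.hom) hv
  let τ : (DCoh.Rpush f).obj ((DCoh.inD X (Omega.sheaf f))⟦(1 : ℤ)⟧) ⟶ OS.obj :=
    (DCoh.Rpush f).map k.inv ≫ (adj.counit.app OS).hom
  let σ : OS.obj ⟶ (DCoh.Rpush f).obj ((DCoh.inD X (Omega.sheaf f))⟦(1 : ℤ)⟧) :=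
    biprod.inl ≫ e.inv ≫ (DCoh.Rpush f).map v.hom ≫ (DCoh.Rpush f).map k.hom
  have hστ : σ ≫ τ = 𝟙 _ := by
    simp only [σ, τ, Category.assoc]
    rw [← Functor.map_comp_assoc (DCoh.Rpush f) k.hom, k.hom_inv_id, CategoryTheory.Functor.map_id,
      Category.id_comp, hv', Iso.inv_hom_id_assoc, biprod.inl_fst]
  haveI : Coh.IsQCoh (Omega.sheaf f) := Groth.L29.DC.PCQCoh.isQCoh_of_isFinLocFree
    (Groth.L16.Existence.isFinLocFree_of_isInvertible (isInvertible_omega f))
  obtain ⟨i⟩ := nonempty_HD_push_shift f (Omega.sheaf f)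
  let H := DerivedCategory.homologyFunctor (Spec R).Modules 0
  let i₀ : H.obj OS.obj ≅ Coh.structureModule (Spec R) :=
    (DerivedCategory.singleFunctorCompHomologyFunctorIso (Spec R).Modules 0).app _
  haveI : IsSplitEpi (H.map τ) := ⟨⟨⟨H.map σ, by rw [← H.map_comp, hστ, H.map_id]⟩⟩⟩
  exact ⟨i.inv ≫ H.map τ ≫ i₀.hom, inferInstance⟩

end Groth.L21.CurveRD
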